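import Mathlib.NumberTheory.Padics.PadicVal.Basic
import Mathlib.Data.Nat.Factorization.Basic
import Mathlib.Tactic

/-!
Arithmetic for the largest nilpotent subgroups of symmetric and alternating groups:
`T n` is the 2-part of `n!`, `g n` the bound, `h n` the bound for transitive groups.
-/

set_option autoImplicit false

namespace Cfsg.Agent.NilpPerm

/-- The 2-part of `n!`. -/
noncomputable def T (n : ℕ) : ℕ := 2 ^ padicValNat 2 n.factorial

theorem T_pos (n : ℕ) : 0 < T n := pow_pos two_pos _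

theorem T_two_mul (k : ℕ) : T (2 * k) = 2 ^ k * T k := by
  rw [T, T, padicValNat_factorial_mul, pow_add, mul_comm]

theorem T_two_mul_add_one (k : ℕ) : T (2 * k + 1) = T (2 * k) := by
  rw [T, T, padicValNat_factorial_mul_add k one_lt_two]

theorem T_zero : T 0 = 1 := by simp [T]

theorem T_one : T 1 = 1 := by simp [T]

theorem T_mono {a b : ℕ} (h : a ≤ b) : T a ≤ T b := by
  refine Nat.pow_le_pow_right two_pos ?_
  have hd : 2 ^ padicValNat 2 a.factorial ∣ b.factorial :=
    pow_padicValNat_dvd.trans (Nat.factorial_dvd_factorial h)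
  exact (padicValNat_dvd_iff_le (Nat.factorial_ne_zero b)).1 hd

theorem T_mul_le (a b : ℕ) : T a * T b ≤ T (a + b) := by
  rw [T, T, T, ← pow_add, ← padicValNat.mul (Nat.factorial_ne_zero a) (Nat.factorial_ne_zero b)]
  refine Nat.pow_le_pow_right two_pos ?_
  have hd : 2 ^ padicValNat 2 (a.factorial * b.factorial) ∣ (a + b).factorial :=
    pow_padicValNat_dvd.trans (Nat.factorial_mul_factorial_dvd_factorial_add a b)
  exact (padicValNat_dvd_iff_le (Nat.factorial_ne_zero _)).1 hd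

theorem T_values : T 2 = 2 ∧ T 3 = 2 ∧ T 4 = 8 ∧ T 5 = 8 ∧ T 6 = 16 ∧ T 7 = 16 ∧ T 8 = 128 ∧
    T 9 = 128 ∧ T 10 = 256 ∧ T 11 = 256 ∧ T 12 = 1024 ∧ T 13 = 1024 ∧ T 14 = 2048 ∧ T 15 = 2048 := by
  have h2 : T 2 = 2 := by rw [show (2 : ℕ) = 2 * 1 from rfl, T_two_mul, T_one]; rfl
  have h3 : T 3 = 2 := by rw [show (3 : ℕ) = 2 * 1 + 1 from rfl, T_two_mul_add_one]; exact h2
  have h4 : T 4 = 8 := by rw [show (4 : ℕ) = 2 * 2 from rfl, T_two_mul, h2]; rfl
  have h5 : T 5 = 8 := by rw [show (5 : ℕ) = 2 * 2 + 1 from rfl, T_two_mul_add_one]; exact h4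
  have h6 : T 6 = 16 := by rw [show (6 : ℕ) = 2 * 3 from rfl, T_two_mul, h3]; rfl
  have h7 : T 7 = 16 := by rw [show (7 : ℕ) = 2 * 3 + 1 from rfl, T_two_mul_add_one]; exact h6
  have h8 : T 8 = 128 := by rw [show (8 : ℕ) = 2 * 4 from rfl, T_two_mul, h4]; rfl
  have h9 : T 9 = 128 := by rw [show (9 : ℕ) = 2 * 4 + 1 from rfl, T_two_mul_add_one]; exact h8
  have h10 : T 10 = 256 := by rw [show (10 : ℕ) = 2 * 5 from rfl, T_two_mul, h5]; rfl
  have h11 : T 11 = 256 := by rw [show (11 : ℕ) = 2 * 5 + 1 from rfl, T_two_mul_add_one]; exact h10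
  have h12 : T 12 = 1024 := by rw [show (12 : ℕ) = 2 * 6 from rfl, T_two_mul, h6]; rfl
  have h13 : T 13 = 1024 := by rw [show (13 : ℕ) = 2 * 6 + 1 from rfl, T_two_mul_add_one]; exact h12
  have h14 : T 14 = 2048 := by rw [show (14 : ℕ) = 2 * 7 from rfl, T_two_mul, h7]; rfl
  have h15 : T 15 = 2048 := by rw [show (15 : ℕ) = 2 * 7 + 1 from rfl, T_two_mul_add_one]; exact h14
  exact ⟨h2, h3, h4, h5, h6, h7, h8, h9, h10, h11, h12, h13, h14, h15⟩

theorem two_le_T {n : ℕ} (h : 2 ≤ n) : 2 ≤ T n := T_values.1 ▸ T_mono h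

/-- Adding two odd numbers carries. -/
theorem carry_odd (i j : ℕ) : 2 * (T (2 * i + 1) * T (2 * j + 1)) ≤ T (2 * i + 1 + (2 * j + 1)) := by
  rw [show 2 * i + 1 + (2 * j + 1) = 2 * (i + j + 1) by ring, T_two_mul_add_one, T_two_mul_add_one,
    T_two_mul, T_two_mul, T_two_mul]
  have h : T i * T j ≤ T (i + j + 1) := (T_mul_le i j).trans (T_mono (by omega))
  calc 2 * (2 ^ i * T i * (2 ^ j * T j)) = 2 ^ (i + j + 1) * (T i * T j) := by ring
    _ ≤ 2 ^ (i + j + 1) * T (i + j + 1) := Nat.mul_le_mul le_rfl h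

/-- The bound for nilpotent subgroups of the symmetric group of degree `n`. -/
noncomputable def g (n : ℕ) : ℕ := if n % 4 = 3 then 3 * T (n - 3) else T n

theorem T_four_mul_add_three (i : ℕ) : T (4 * i + 3) = 2 * T (4 * i) := by
  rw [show 4 * i + 3 = 2 * (2 * i + 1) + 1 by ring, T_two_mul_add_one, T_two_mul, T_two_mul_add_one,
    show 4 * i = 2 * (2 * i) by ring, T_two_mul (2 * i)]
  ring

theorem two_mul_g {n : ℕ} (h : n % 4 = 3) : 2 * g n = 3 * T n := by
  obtain ⟨i, rfl⟩ : ∃ i, n = 4 * i + 3 := ⟨n / 4, by omega⟩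
  rw [g, if_pos h, T_four_mul_add_three, show 4 * i + 3 - 3 = 4 * i by omega]
  ring

theorem g_of_ne {n : ℕ} (h : n % 4 ≠ 3) : g n = T n := if_neg h

theorem T_le_g (n : ℕ) : T n ≤ g n := by
  by_cases h : n % 4 = 3
  · have := two_mul_g h
    omega
  · rw [g_of_ne h]

theorem g_pos (n : ℕ) : 0 < g n := (T_pos n).trans_le (T_le_g n)

theorem g_mul_le_aux {a b : ℕ} (ha : a % 4 = 3) : g a * g b ≤ g (a + b) := by
  have e2 := two_mul_g ha
  by_cases hb : b % 4 = 0
  · have e3 := two_mul_g (show (a + b) % 4 = 3 by omega)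
    have h := T_mul_le a b
    rw [g_of_ne (n := b) (by omega)]
    nlinarith
  have hc : 2 * (T a * T b) ≤ T (a + b) := by
    by_cases hodd : b % 2 = 1
    · obtain ⟨i, rfl⟩ : ∃ i, a = 2 * i + 1 := ⟨a / 2, by omega⟩
      obtain ⟨j, rfl⟩ : ∃ j, b = 2 * j + 1 := ⟨b / 2, by omega⟩
      exact carry_odd i j
    · obtain ⟨i, rfl⟩ : ∃ i, a = 2 * (2 * i + 1) + 1 := ⟨a / 4, by omega⟩
      obtain ⟨j, rfl⟩ : ∃ j, b = 2 * (2 * j + 1) := ⟨b / 4, by omega⟩
      rw [show 2 * (2 * i + 1) + 1 + 2 * (2 * j + 1) = 2 * (2 * i + 1 + (2 * j + 1)) + 1 by ring,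
        T_two_mul_add_one, T_two_mul_add_one, T_two_mul, T_two_mul, T_two_mul]
      calc 2 * (2 ^ (2 * i + 1) * T (2 * i + 1) * (2 ^ (2 * j + 1) * T (2 * j + 1)))
          = 2 ^ (2 * i + 1 + (2 * j + 1)) * (2 * (T (2 * i + 1) * T (2 * j + 1))) := by ring
        _ ≤ _ := Nat.mul_le_mul le_rfl (carry_odd i j)
  by_cases hb3 : b % 4 = 3
  · have hc4 : 4 * (T a * T b) ≤ T (a + b) := by
      obtain ⟨i, rfl⟩ : ∃ i, a = 2 * (2 * i + 1) + 1 := ⟨a / 4, by omega⟩
      obtain ⟨j, rfl⟩ : ∃ j, b = 2 * (2 * j + 1) + 1 := ⟨b / 4, by omega⟩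
      rw [show 2 * (2 * i + 1) + 1 + (2 * (2 * j + 1) + 1) = 2 * (2 * i + 1 + (2 * j + 1) + 1) by ring,
        T_two_mul_add_one, T_two_mul_add_one, T_two_mul, T_two_mul, T_two_mul]
      calc 4 * (2 ^ (2 * i + 1) * T (2 * i + 1) * (2 ^ (2 * j + 1) * T (2 * j + 1)))
          = 2 ^ (2 * i + 1 + (2 * j + 1) + 1) * (2 * (T (2 * i + 1) * T (2 * j + 1))) := by ring
        _ ≤ _ := Nat.mul_le_mul le_rfl ((carry_odd i j).trans (T_mono (by omega)))
    have e4 := two_mul_g hb3
    have := T_le_g (a + b)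
    nlinarith [T_pos a, T_pos b]
  · rw [g_of_ne (n := b) hb3]
    have := T_le_g (a + b)
    nlinarith [T_pos a, T_pos b]

theorem g_mul_le (a b : ℕ) : g a * g b ≤ g (a + b) := by
  by_cases ha : a % 4 = 3
  · exact g_mul_le_aux ha
  by_cases hb : b % 4 = 3
  · rw [mul_comm, add_comm]; exact g_mul_le_aux hb
  · rw [g_of_ne ha, g_of_ne hb]
    exact (T_mul_le a b).trans (T_le_g _)

theorem three_pow_le (j : ℕ) (hj : 2 ≤ j) : 3 ^ (j + 1) ≤ 2 ^ (2 * j + 1) := by
  induction j, hj using Nat.le_induction with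
  | base => norm_num
  | succ j _ ih =>
    calc 3 ^ (j + 1 + 1) = 3 * 3 ^ (j + 1) := by ring
      _ ≤ 4 * 2 ^ (2 * j + 1) := Nat.mul_le_mul (by norm_num) ih
      _ = 2 ^ (2 * (j + 1) + 1) := by ring

theorem two_mul_three_pow_le : ∀ k : ℕ, 8 ≤ k → 2 * 3 ^ k ≤ 2 ^ k * T k := by
  intro k
  induction k using Nat.strong_induction_on with
  | _ k ih =>
    intro hk
    by_cases h16 : k < 16
    · obtain ⟨h2, h3, h4, h5, h6, h7, h8, h9, h10, h11, h12, h13, h14, h15⟩ := T_values
      interval_cases k <;> simp_all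
    obtain ⟨j, hj | hj⟩ : ∃ j, k = 2 * j ∨ k = 2 * j + 1 := ⟨k / 2, by omega⟩
    · have hi := ih j (by omega) (by omega)
      subst hj
      rw [T_two_mul]
      calc 2 * 3 ^ (2 * j) = 2 * 3 ^ j * 3 ^ j := by rw [two_mul j, pow_add]; ring
        _ ≤ 2 ^ j * T j * 4 ^ j := Nat.mul_le_mul hi (Nat.pow_le_pow_left (by norm_num) j)
        _ = _ := by rw [show (4 : ℕ) ^ j = 2 ^ (2 * j) by rw [pow_mul]; norm_num]; ring
    · have hi := ih j (by omega) (by omega)
      subst hj
      rw [T_two_mul_add_one, T_two_mul]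
      calc 2 * 3 ^ (2 * j + 1) = 2 * 3 ^ j * 3 ^ (j + 1) := by
            rw [two_mul j, pow_succ, pow_add]; ring
        _ ≤ 2 ^ j * T j * 2 ^ (2 * j + 1) := Nat.mul_le_mul hi (three_pow_le j (by omega))
        _ = _ := by ring

/-- The exponent of `p` in `(p ^ a)!`. -/
noncomputable def e (p a : ℕ) : ℕ := padicValNat p (p ^ a).factorial

theorem e_spec {p : ℕ} (hp : p.Prime) (a : ℕ) : (p - 1) * e p a + 1 = p ^ a := by
  haveI := Fact.mk hp
  induction a with
  | zero => simp [e]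
  | succ a ih =>
    rw [e, pow_succ', padicValNat_factorial_mul, ← e, mul_add]
    obtain ⟨r, rfl⟩ : ∃ r, p = r + 1 := ⟨p - 1, by have := hp.one_lt; omega⟩
    rw [Nat.add_sub_cancel] at ih ⊢
    rw [add_right_comm, ih]
    ring

theorem e_one {p : ℕ} (hp : p.Prime) : e p 1 = 1 := by
  have h := e_spec hp 1
  rw [pow_one] at h
  have := hp.two_le
  rcases Nat.lt_or_ge 1 (e p 1) with h1 | h1
  · have : (p - 1) * 2 ≤ (p - 1) * e p 1 := Nat.mul_le_mul le_rfl h1
    omega
  · interval_cases e p 1 <;> omega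

theorem T_two_pow (a : ℕ) : T (2 ^ a) = 2 ^ (2 ^ a - 1) := by
  have := e_spec Nat.prime_two a
  rw [T, ← e]
  congr 1
  omega

theorem sq_le_three_pow {p : ℕ} (hp : 3 ≤ p) : p ^ 2 ≤ 3 ^ (p - 1) := by
  induction p, hp using Nat.le_induction with
  | base => norm_num
  | succ p hp ih =>
    rw [show p + 1 - 1 = p - 1 + 1 by omega, pow_succ 3]
    nlinarith

/-- The bound for transitive nilpotent groups of degree `n`. -/
noncomputable def h (n : ℕ) : ℕ := ∏ p ∈ n.primeFactors, p ^ e p (n.factorization p)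

theorem prod_sq_le (s : Finset ℕ) (a : ℕ → ℕ) (hs : ∀ p ∈ s, p.Prime ∧ p ≠ 2) :
    (∏ p ∈ s, p ^ e p (a p)) ^ 2 ≤ 3 ^ ((∏ p ∈ s, p ^ a p) - 1) := by
  induction s using Finset.induction with
  | empty => simp
  | insert p s hps ih =>
    have hp := hs p (Finset.mem_insert_self p s)
    have h3 : 3 ≤ p := by
      have := hp.1.two_le
      omega
    rw [Finset.prod_insert hps, Finset.prod_insert hps, mul_pow]
    refine (Nat.mul_le_mul ?_ (ih fun q hq => hs q (Finset.mem_insert_of_mem hq))).trans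
      ((pow_add 3 (p ^ a p - 1) _).symm.le.trans (Nat.pow_le_pow_right (by norm_num) ?_))
    · calc (p ^ e p (a p)) ^ 2 = (p ^ 2) ^ e p (a p) := by rw [← pow_mul, ← pow_mul, mul_comm]
        _ ≤ (3 ^ (p - 1)) ^ e p (a p) := Nat.pow_le_pow_left (sq_le_three_pow h3) _
        _ = 3 ^ (p ^ a p - 1) := by
          rw [← pow_mul]
          congr 1
          have := e_spec hp.1 (a p)
          omega
    · have h1 : 1 ≤ p ^ a p := Nat.one_le_pow _ _ hp.1.pos
      have h2 : 1 ≤ ∏ q ∈ s, q ^ a q := Finset.one_le_prod' fun q hq =>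
        Nat.one_le_pow _ _ (hs q (Finset.mem_insert_of_mem hq)).1.pos
      obtain ⟨x, hx⟩ := Nat.exists_eq_add_of_le h1
      obtain ⟨y, hy⟩ := Nat.exists_eq_add_of_le h2
      rw [hx, hy, show (1 + x) * (1 + y) = 1 + (x + y + x * y) by ring]
      omega

theorem h_sq_le_of_odd {n : ℕ} (hn : n % 2 = 1) : h n ^ 2 ≤ 3 ^ (n - 1) := by
  have hp := Nat.prod_factorization_pow_eq_self (n := n) (by omega)
  rw [Finsupp.prod, Nat.support_factorization] at hp
  conv_rhs => rw [← hp]
  refine prod_sq_le _ _ fun p hp => ⟨Nat.prime_of_mem_primeFactors hp, fun h2 => ?_⟩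
  have := Nat.dvd_of_mem_primeFactors hp
  subst h2
  omega

theorem T_two_pow_mul (a m : ℕ) : T (2 ^ a * m) = 2 ^ ((2 ^ a - 1) * m) * T m := by
  induction a with
  | zero => simp
  | succ a ih =>
    rw [pow_succ', mul_assoc, T_two_mul, ih, ← mul_assoc, ← pow_add]
    congr 2
    have : 1 ≤ 2 ^ a := Nat.one_le_two_pow
    obtain ⟨x, hx⟩ := Nat.exists_eq_add_of_le this
    rw [hx, show 1 + x - 1 = x by omega, show 2 * (1 + x) - 1 = 2 * x + 1 by omega]
    ring

theorem two_mul_h_le {n : ℕ} (hev : n % 2 = 0) {p : ℕ} (hp : p.Prime) (hp2 : p ≠ 2) (hpn : p ∣ n)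
    (hn : n ≠ 0) : 2 * h n ≤ T n := by
  have h2m : 2 ∈ n.primeFactors := Nat.mem_primeFactors.2 ⟨Nat.prime_two, by omega, hn⟩
  set s := n.primeFactors.erase 2 with hs
  set a := n.factorization 2 with ha
  set m := ∏ q ∈ s, q ^ n.factorization q with hm
  have hsp : ∀ q ∈ s, q.Prime ∧ q ≠ 2 := fun q hq =>
    ⟨Nat.prime_of_mem_primeFactors (Finset.mem_of_mem_erase hq), Finset.ne_of_mem_erase hq⟩
  have hnm : n = 2 ^ a * m := by
    have hp := Nat.prod_factorization_pow_eq_self (n := n) hn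
    rw [Finsupp.prod, Nat.support_factorization, ← Finset.mul_prod_erase _ _ h2m] at hp
    exact hp.symm
  have hh : h n = T (2 ^ a) * ∏ q ∈ s, q ^ e q (n.factorization q) := by
    rw [h, ← Finset.mul_prod_erase _ _ h2m]
    rfl
  have hm3 : 3 ≤ m := by
    have hps : p ∈ s := Finset.mem_erase.2 ⟨hp2, Nat.mem_primeFactors.2 ⟨hp, hpn, hn⟩⟩
    have hdvd : p ^ n.factorization p ∣ m := Finset.dvd_prod_of_mem (fun q => q ^ n.factorization q) hps
    have hmpos : 0 < m := Finset.prod_pos fun q hq => pow_pos (hsp q hq).1.pos _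
    have h1 : 1 ≤ n.factorization p := hp.factorization_pos_of_dvd hn hpn
    have h2 : p ^ 1 ≤ m := (Nat.pow_le_pow_right hp.pos h1).trans (Nat.le_of_dvd hmpos hdvd)
    have := hp.two_le
    rw [pow_one] at h2
    omega
  have hq : ∏ q ∈ s, q ^ e q (n.factorization q) ≤ 2 ^ (m - 1) := by
    have h1 := prod_sq_le s n.factorization hsp
    rw [← hm] at h1
    have h2 : (∏ q ∈ s, q ^ e q (n.factorization q)) ^ 2 ≤ (2 ^ (m - 1)) ^ 2 :=
      h1.trans ((Nat.pow_le_pow_left (by norm_num : (3 : ℕ) ≤ 4) _).trans (le_of_eq (by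
        rw [← pow_mul, mul_comm, pow_mul]; norm_num)))
    exact le_of_pow_le_pow_left₀ two_ne_zero (Nat.zero_le _) h2
  have ha1 : 1 ≤ a := Nat.prime_two.factorization_pos_of_dvd hn (by omega)
  obtain ⟨x, hx⟩ : ∃ x, 2 ^ a = x + 2 := ⟨2 ^ a - 2, by
    have : 2 ^ 1 ≤ 2 ^ a := Nat.pow_le_pow_right two_pos ha1
    omega⟩
  rw [hh, T_two_pow]
  conv_rhs => rw [hnm]
  rw [T_two_pow_mul, hx, show x + 2 - 1 = x + 1 by omega]
  calc 2 * (2 ^ (x + 1) * ∏ q ∈ s, q ^ e q (n.factorization q))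
      ≤ 2 * (2 ^ (x + 1) * 2 ^ (m - 1)) := by gcongr
    _ ≤ 2 ^ ((x + 1) * m) * 2 := by
        rw [mul_comm 2, ← pow_add]
        refine Nat.mul_le_mul (Nat.pow_le_pow_right two_pos ?_) le_rfl
        obtain ⟨y, hy⟩ : ∃ y, m = y + 1 := ⟨m - 1, by omega⟩
        rw [hy, Nat.add_sub_cancel]
        nlinarith
    _ ≤ _ := Nat.mul_le_mul le_rfl (two_le_T (by omega))

theorem dvd_h {N n : ℕ} (hN : N ≠ 0)
    (hb : ∀ p : ℕ, p.Prime → p ∣ N → p ∈ n.primeFactors ∧ N.factorization p ≤ e p (n.factorization p)) :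
    N ∣ h n := by
  have hN' := Nat.prod_factorization_pow_eq_self (n := N) hN
  rw [Finsupp.prod, Nat.support_factorization] at hN'
  rw [← hN', h]
  have hsub : ∀ p ∈ N.primeFactors, p ∈ n.primeFactors ∧
      N.factorization p ≤ e p (n.factorization p) := fun p hp =>
    hb p (Nat.prime_of_mem_primeFactors hp) (Nat.dvd_of_mem_primeFactors hp)
  exact (Finset.prod_dvd_prod_of_dvd _ _ fun p hp => pow_dvd_pow p (hsub p hp).2).trans
    (Finset.prod_dvd_prod_of_subset _ _ _ fun p hp => (hsub p hp).1)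

theorem h_pos (n : ℕ) : 0 < h n :=
  Finset.prod_pos fun p hp => pow_pos (Nat.prime_of_mem_primeFactors hp).pos _

theorem h_prime {p : ℕ} (hp : p.Prime) : h p = p := by
  rw [h, hp.primeFactors, Finset.prod_singleton, hp.factorization_self, e_one hp, pow_one]

theorem h_fifteen : h 15 = 15 := by
  have h3 : Nat.Prime 3 := Nat.prime_three
  have h5 : Nat.Prime 5 := Nat.prime_five
  have hf : (15 : ℕ).primeFactors = {3, 5} := by
    rw [show (15 : ℕ) = 3 * 5 from rfl, Nat.primeFactors_mul (by norm_num) (by norm_num),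
      h3.primeFactors, h5.primeFactors]
    rfl
  have e3 : (15 : ℕ).factorization 3 = 1 := by
    rw [show (15 : ℕ) = 3 * 5 from rfl, Nat.factorization_mul (by norm_num) (by norm_num)]
    simp [h3.factorization_self, h5.factorization]
  have e5 : (15 : ℕ).factorization 5 = 1 := by
    rw [show (15 : ℕ) = 3 * 5 from rfl, Nat.factorization_mul (by norm_num) (by norm_num)]
    simp [h5.factorization_self, h3.factorization]
  rw [h, hf, Finset.prod_pair (by norm_num), e3, e5, e_one h3, e_one h5]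
  norm_num

theorem le_of_sq_le {q b : ℕ} (h : q ^ 2 ≤ b ^ 2) : q ≤ b :=
  le_of_pow_le_pow_left₀ two_ne_zero (Nat.zero_le b) h

/-- The bound for odd order groups. -/
theorem odd_bound {n q : ℕ} (h2 : 2 ≤ n) (h3 : n ≠ 3) (h5 : n ≠ 5) (h6 : n ≠ 6) (h9 : n ≠ 9)
    (hq : q ^ 2 ≤ 3 ^ (n - 1)) (hev : n % 2 = 0 → q ^ 2 * 9 ≤ 3 ^ n)
    (hsmall : n % 2 = 1 → n ≤ 15 → q ^ 2 * 27 ≤ 3 ^ n ∨ q ≤ n) : 2 * q ≤ g n := by
  by_cases h16 : n < 16
  · obtain ⟨v2, v3, v4, v5, v6, v7, v8, v9, v10, v11, v12, v13, v14, v15⟩ := T_values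
    have hg : T n ≤ g n := T_le_g n
    interval_cases n
    · have := le_of_sq_le (b := 1) (q := q) (by have := hev rfl; norm_num at this ⊢; omega)
      omega
    · exact absurd rfl h3
    · have := le_of_sq_le (b := 3) (q := q) (by have := hev rfl; norm_num at this ⊢; omega)
      omega
    · exact absurd rfl h5
    · exact absurd rfl h6
    · have hg' := two_mul_g (n := 7) rfl
      have := hsmall rfl (by norm_num)
      have : q ≤ 9 := this.elim (fun h => le_of_sq_le (by norm_num at h ⊢; omega)) (by omega)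
      omega
    · have := le_of_sq_le (b := 27) (q := q) (by have := hev rfl; norm_num at this ⊢; omega)
      omega
    · exact absurd rfl h9
    · have := le_of_sq_le (b := 81) (q := q) (by have := hev rfl; norm_num at this ⊢; omega)
      omega
    · have hg' := two_mul_g (n := 11) rfl
      have := hsmall rfl (by norm_num)
      have : q ≤ 81 := this.elim (fun h => le_of_sq_le (by norm_num at h ⊢; omega)) (by omega)
      omega
    · have := le_of_sq_le (b := 243) (q := q) (by have := hev rfl; norm_num at this ⊢; omega)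
      omega
    · have := hsmall rfl (by norm_num)
      have : q ≤ 243 := this.elim (fun h => le_of_sq_le (by norm_num at h ⊢; omega)) (by omega)
      omega
    · have := le_of_sq_le (b := 729) (q := q) (by have := hev rfl; norm_num at this ⊢; omega)
      omega
    · have hg' := two_mul_g (n := 15) rfl
      have := hsmall rfl (by norm_num)
      have : q ≤ 729 := this.elim (fun h => le_of_sq_le (by norm_num at h ⊢; omega)) (by omega)
      omega
  · refine le_trans ?_ (T_le_g n)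
    obtain ⟨k, hk | hk⟩ : ∃ k, n = 2 * (k + 1) ∨ n = 2 * k + 1 := ⟨(n - 1) / 2, by omega⟩
    · have hb := two_mul_three_pow_le (k + 1) (by omega)
      have hh := hev (by omega)
      subst hk
      rw [T_two_mul]
      have : q * 3 ≤ 3 ^ (k + 1) := le_of_sq_le (by
        rw [← pow_mul, mul_comm (k + 1) 2, mul_pow]
        exact hh)
      omega
    · have hb := two_mul_three_pow_le k (by omega)
      subst hk
      rw [T_two_mul_add_one, T_two_mul]
      have : q ≤ 3 ^ k := le_of_sq_le (by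
        rw [← pow_mul, mul_comm k 2]
        simpa using hq)
      omega

theorem h_le_g (n : ℕ) : h n ≤ g n := by
  rcases Nat.eq_zero_or_pos n with rfl | hn
  · simp [h, g, T_zero]
  rcases Nat.mod_two_eq_zero_or_one n with hev | hodd
  · by_cases hp : ∃ p : ℕ, p.Prime ∧ p ≠ 2 ∧ p ∣ n
    · obtain ⟨p, hp, hp2, hpn⟩ := hp
      have := two_mul_h_le hev hp hp2 hpn (by omega)
      have := T_le_g n
      omega
    · have hs : n.primeFactors = {2} := by
        refine Finset.eq_singleton_iff_unique_mem.2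
          ⟨Nat.mem_primeFactors.2 ⟨Nat.prime_two, by omega, by omega⟩, fun p hp' => ?_⟩
        by_contra h
        exact hp ⟨p, Nat.prime_of_mem_primeFactors hp', h, Nat.dvd_of_mem_primeFactors hp'⟩
      have hn2 : n = 2 ^ n.factorization 2 := by
        have hp := Nat.prod_factorization_pow_eq_self (n := n) (by omega)
        rw [Finsupp.prod, Nat.support_factorization, hs, Finset.prod_singleton] at hp
        exact hp.symm
      refine le_trans (le_of_eq ?_) (T_le_g n)
      rw [h, hs, Finset.prod_singleton]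
      conv_rhs => rw [hn2]
      rfl
  · have hq := h_sq_le_of_odd hodd
    obtain ⟨v2, v3, v4, v5, v6, v7, v8, v9, -⟩ := T_values
    by_cases h1 : n = 1
    · subst h1; simp [h, g, T_one]
    by_cases h3 : n = 3
    · subst h3; rw [h_prime Nat.prime_three]; simp [g, T_zero]
    by_cases h5 : n = 5
    · subst h5; rw [h_prime Nat.prime_five, g_of_ne (by norm_num), v5]; norm_num
    by_cases h9 : n = 9
    · subst h9
      have : h 9 ≤ 81 := le_of_sq_le (by norm_num at hq ⊢; omega)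
      rw [g_of_ne (by norm_num), v9]
      omega
    have := odd_bound (n := n) (q := h n) (by omega) h3 h5 (by omega) h9 hq (by omega) (fun _ h15 => by
      right
      interval_cases n <;> first
        | omega
        | (rw [h_fifteen])
        | (rw [h_prime (by norm_num)]))
    omega

end Cfsg.Agent.NilpPerm
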