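import Cfsg.Agent.Lib.NilpPerm.Arith
import Cfsg.Agent.Lib.Subnormal.Nilpotent
import Mathlib.GroupTheory.GroupAction.Blocks
import Mathlib.GroupTheory.SpecificGroups.Alternating

/-!
The orders of nilpotent permutation groups.
-/

set_option autoImplicit false
set_option linter.style.haveILetI false

namespace Cfsg.Agent.NilpPerm

open Equiv MulAction

universe u

variable {α : Type u} [Fintype α]

/-- In a transitive nilpotent group every prime divisor of the order divides the degree, and its
exponent is bounded by that of the Sylow subgroup of the symmetric group on that part of the degree. -/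
theorem transitive_prime {N : Subgroup (Perm α)} [Group.IsNilpotent N] [IsPretransitive N α]
    [Nonempty α] {p : ℕ} (hp : p.Prime) (hdvd : p ∣ Nat.card N) :
    p ∈ (Nat.card α).primeFactors ∧
      (Nat.card N).factorization p ≤ e p ((Nat.card α).factorization p) := by
  classical
  haveI := Fact.mk hp
  obtain ⟨P⟩ := (inferInstance : Nonempty (Sylow p N))
  haveI : (P : Subgroup N).Normal := P.normal_of_normalizerCondition Group.normalizerCondition_of_isNilpotent
  obtain ⟨x⟩ := (inferInstance : Nonempty α)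
  -- `P` is faithful on the orbit of `x`
  have hfaith : ∀ u : (P : Subgroup N), (∀ y ∈ orbit (P : Subgroup N) x, u • y = y) → u = 1 := by
    intro u hu
    refine Subtype.ext (Subtype.ext (Equiv.ext fun y => ?_))
    obtain ⟨k, hk⟩ := MulAction.exists_smul_eq N x y
    have hk' : k ∈ (P : Subgroup N) ⊔ Subgroup.centralizer ((P : Subgroup N) : Set N) := by
      rw [Subnormal.sylow_sup_centralizer P]; trivial
    obtain ⟨v, hv, w, hw, rfl⟩ := Subgroup.mem_sup_of_normal_left.1 hk'
    have hwv : Commute w v := ((Subgroup.mem_centralizer_iff.1 hw) v hv).symm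
    have hwu : Commute w (u : N) := ((Subgroup.mem_centralizer_iff.1 hw) u u.2).symm
    have h1 : (u : N) • (v • x) = v • x := hu (v • x) ⟨⟨v, hv⟩, rfl⟩
    show (u : N) • y = y
    rw [← hk, ← mul_smul, ← hwv.eq, ← mul_assoc, ← hwu.eq, mul_assoc, mul_smul, mul_smul, h1,
      ← mul_smul]
  have hinj : Function.Injective (MulAction.toPermHom (P : Subgroup N) (orbit (P : Subgroup N) x)) := by
    refine (injective_iff_map_eq_one _).2 fun u hu => hfaith u fun y hy => ?_
    exact congrArg Subtype.val (Equiv.ext_iff.1 hu ⟨y, hy⟩)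
  obtain ⟨k, hk⟩ := (IsPGroup.iff_card.1 P.isPGroup')
  obtain ⟨b, -, hb⟩ := (Nat.dvd_prime_pow hp).1 (hk ▸ (stabilizer (P : Subgroup N) x).index_dvd_card)
  rw [index_stabilizer] at hb
  have hdv : p ^ b ∣ Nat.card α := hb ▸ IsBlock.ncard_dvd_card
    (IsBlock.orbit_of_normal (N := (P : Subgroup N)) x) (nonempty_orbit x)
  have hP : Nat.card (P : Subgroup N) ∣ (p ^ b).factorial := by
    have h1 := Subgroup.card_dvd_of_injective _ hinj
    rwa [Nat.card_perm, Nat.card_coe_set_eq, hb] at h1
  have hn : Nat.card α ≠ 0 := Nat.card_pos.ne'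
  have hPc : p ^ (Nat.card N).factorization p ∣ (p ^ b).factorial := by
    rw [← P.card_eq_multiplicity]; exact hP
  have hle : (Nat.card N).factorization p ≤ e p b :=
    (padicValNat_dvd_iff_le (Nat.factorial_ne_zero _)).1 hPc
  have hpos : 0 < (Nat.card N).factorization p := hp.factorization_pos_of_dvd Nat.card_pos.ne' hdvd
  have hb0 : b ≠ 0 := fun h0 => by
    rw [h0, show e p 0 = 0 by simp [e]] at hle
    omega
  refine ⟨Nat.mem_primeFactors.2 ⟨hp, (dvd_pow_self p hb0).trans hdv, hn⟩, hle.trans ?_⟩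
  refine (padicValNat_dvd_iff_le (Nat.factorial_ne_zero _)).1 ?_
  exact pow_padicValNat_dvd.trans (Nat.factorial_dvd_factorial (Nat.pow_le_pow_right hp.pos
    ((hp.pow_dvd_iff_le_factorization hn).1 hdv)))

theorem transitive_dvd (N : Subgroup (Perm α)) [Group.IsNilpotent N] [IsPretransitive N α]
    [Nonempty α] : Nat.card N ∣ h (Nat.card α) :=
  dvd_h Nat.card_pos.ne' fun _ hp hd => transitive_prime hp hd

/-! ### Restriction to invariant sets -/

variable (N : Subgroup (Perm α)) (S : α → Prop) (hS : ∀ g ∈ N, ∀ x, S (g x) ↔ S x)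

/-- Restriction to an invariant set. -/
def restr : N →* Perm {x // S x} where
  toFun g := (g : Perm α).subtypePerm fun x => hS g g.2 x
  map_one' := Equiv.ext fun _ => rfl
  map_mul' _ _ := Equiv.ext fun _ => rfl

omit [Fintype α] in
theorem restr_apply (g : N) (x : {x // S x}) : ((restr N S hS g x : {x // S x}) : α) = (g : Perm α) x :=
  rfl

omit [Fintype α] in
include hS in
theorem compl_inv : ∀ g ∈ N, ∀ x, ¬ S (g x) ↔ ¬ S x := fun g hg x => not_congr (hS g hg x)

omit [Fintype α] in
theorem pair_injective :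
    Function.Injective fun g : N => (restr N S hS g, restr N (fun x => ¬ S x) (compl_inv N S hS) g) := by
  intro g k h
  simp only [Prod.mk.injEq] at h
  refine Subtype.ext (Equiv.ext fun x => ?_)
  by_cases hx : S x
  · exact congrArg Subtype.val (Equiv.ext_iff.1 h.1 ⟨x, hx⟩)
  · exact congrArg Subtype.val (Equiv.ext_iff.1 h.2 ⟨x, hx⟩)

theorem card_le_mul : Nat.card N ≤
    Nat.card (restr N S hS).range * Nat.card (restr N (fun x => ¬ S x) (compl_inv N S hS)).range := by
  rw [← Nat.card_prod]
  exact Nat.card_le_card_of_injective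
    (fun g => ((restr N S hS).rangeRestrict g, (restr N (fun x => ¬ S x) (compl_inv N S hS)).rangeRestrict g))
    fun g k h => pair_injective N S hS (Prod.ext (congrArg (Subtype.val ∘ Prod.fst) h)
      (congrArg (Subtype.val ∘ Prod.snd) h))

theorem card_split : Nat.card {x // S x} + Nat.card {x // ¬ S x} = Nat.card α := by
  classical
  rw [← Nat.card_sum, Nat.card_congr (Equiv.sumCompl S)]

omit [Fintype α] in
theorem isNilpotent_restr [Group.IsNilpotent N] : Group.IsNilpotent (restr N S hS).range :=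
  Group.nilpotent_of_surjective _ (restr N S hS).rangeRestrict_surjective

omit [Fintype α] in
theorem orbit_inv (a : α) : ∀ g ∈ N, ∀ x, g x ∈ orbit N a ↔ x ∈ orbit N a := by
  intro g hg x
  constructor
  · rintro ⟨k, hk⟩
    exact ⟨⟨g, hg⟩⁻¹ * k, by
      show ((⟨g, hg⟩⁻¹ * k : N) : Perm α) a = x
      have hk' : (k : Perm α) a = g x := hk
      simp [hk']⟩
  · rintro ⟨k, hk⟩
    exact ⟨⟨g, hg⟩ * k, by
      show g ((k : Perm α) a) = g x
      rw [show (k : Perm α) a = x from hk]⟩

omit [Fintype α] in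
theorem isPretransitive_orbit (a : α) :
    IsPretransitive (restr N (· ∈ orbit N a) (orbit_inv N a)).range {x // x ∈ orbit N a} := by
  refine ⟨fun y z => ?_⟩
  obtain ⟨g, hg⟩ := y.2
  obtain ⟨k, hk⟩ := z.2
  refine ⟨(restr N _ (orbit_inv N a)).rangeRestrict (k * g⁻¹), Subtype.ext ?_⟩
  have hg' : (g : Perm α) a = y.1 := hg
  have hk' : (k : Perm α) a = z.1 := hk
  show ((k * g⁻¹ : N) : Perm α) y.1 = z.1
  rw [← hg', ← hk']
  simp

theorem orbit_dvd_h [Group.IsNilpotent N] (a : α) :
    Nat.card (restr N (· ∈ orbit N a) (orbit_inv N a)).range ∣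
      h (Nat.card {x // x ∈ orbit N a}) := by
  haveI := isNilpotent_restr N (· ∈ orbit N a) (orbit_inv N a)
  haveI := isPretransitive_orbit N a
  haveI : Nonempty {x // x ∈ orbit N a} := ⟨⟨a, mem_orbit_self a⟩⟩
  classical
  exact transitive_dvd _

theorem orbit_card_pos (a : α) : 0 < Nat.card {x // x ∈ orbit N a} := by
  haveI : Nonempty {x // x ∈ orbit N a} := ⟨⟨a, mem_orbit_self a⟩⟩
  exact Nat.card_pos

/-- The order of a nilpotent permutation group. -/
theorem card_le_g : ∀ (α : Type u) [Fintype α] (N : Subgroup (Perm α)), Group.IsNilpotent N →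
    Nat.card N ≤ g (Nat.card α) := by
  intro α _
  induction h : Nat.card α using Nat.strong_induction_on generalizing α with
  | _ n ih =>
    intro N hN
    classical
    rcases isEmpty_or_nonempty α with hE | ⟨⟨a⟩⟩
    · haveI : Subsingleton N := ⟨fun x y => Subtype.ext (Equiv.ext fun z => isEmptyElim z)⟩
      rw [Nat.card_of_subsingleton (1 : N)]
      exact g_pos n
    · refine (card_le_mul N _ (orbit_inv N a)).trans ?_
      have hs := card_split (fun x => x ∈ orbit N a)
      have hpos := orbit_card_pos N a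
      have h2 := ih _ (show Nat.card {x // x ∉ orbit N a} < n by rw [← h]; omega) _ rfl
        (restr N (fun x => x ∉ orbit N a) (compl_inv N _ (orbit_inv N a))).range (isNilpotent_restr N _ _)
      refine (Nat.mul_le_mul ((Nat.le_of_dvd (h_pos _) (orbit_dvd_h N a)).trans (h_le_g _)) h2).trans
        ((g_mul_le _ _).trans (le_of_eq ?_))
      rw [hs, h]

/-- A `2`-group of even permutations. -/
theorem two_group_even [DecidableEq α] (hα : 2 ≤ Nat.card α) (N : Subgroup (Perm α))
    (hN : IsPGroup 2 N) (hev : N ≤ alternatingGroup α) : 2 * Nat.card N ≤ T (Nat.card α) := by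
  haveI : Nontrivial α := Finite.one_lt_card_iff_nontrivial.1 hα
  obtain ⟨k, hk⟩ := IsPGroup.iff_card.1 hN
  have h1 := Nat.mul_dvd_mul_left 2 (Subgroup.card_dvd_of_le hev)
  rw [two_mul_nat_card_alternatingGroup, Nat.card_perm, hk, ← pow_succ'] at h1
  rw [hk, ← pow_succ', T]
  exact Nat.pow_le_pow_right two_pos ((padicValNat_dvd_iff_le (Nat.factorial_ne_zero _)).1 h1)

/-- Nilpotent permutation groups of odd order. -/
theorem odd_sq_le : ∀ (α : Type u) [Fintype α] (N : Subgroup (Perm α)), Group.IsNilpotent N →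
    Nat.card N % 2 = 1 → 0 < Nat.card α →
      Nat.card N ^ 2 * 3 ^ (if Nat.card α % 2 = 1 then 1 else 2) ≤ 3 ^ Nat.card α ∧
      (Nat.card α % 2 = 1 → Nat.card N ^ 2 * 27 ≤ 3 ^ Nat.card α ∨
        Nat.card N ∣ h (Nat.card α)) := by
  intro α _
  induction hc : Nat.card α using Nat.strong_induction_on generalizing α with
  | _ n ih =>
    intro N hN hodd hpos
    classical
    have hne : Nonempty α := (Nat.card_pos_iff.1 (hc ▸ hpos)).1
    obtain ⟨a⟩ := hne
    set S := fun x => x ∈ orbit N a with hS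
    set R := (restr N S (orbit_inv N a)).range
    set R' := (restr N (fun x => ¬ S x) (compl_inv N S (orbit_inv N a))).range
    have hR : Nat.card R % 2 = 1 :=
      Nat.odd_iff.1 (Odd.of_dvd_nat (Nat.odd_iff.2 hodd) (Subgroup.card_range_dvd _))
    have hR' : Nat.card R' % 2 = 1 :=
      Nat.odd_iff.1 (Odd.of_dvd_nat (Nat.odd_iff.2 hodd) (Subgroup.card_range_dvd _))
    have hs := card_split S
    have hsp : 0 < Nat.card {x // S x} := orbit_card_pos N a
    have hdvd : Nat.card R ∣ h (Nat.card {x // S x}) := orbit_dvd_h N a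
    have hsodd : Nat.card {x // S x} % 2 = 1 := by
      haveI := isPretransitive_orbit N a
      have h1 := (stabilizer R (⟨a, mem_orbit_self a⟩ : {x // S x})).index_dvd_card
      rw [index_stabilizer_of_transitive] at h1
      exact Nat.odd_iff.1 (Odd.of_dvd_nat (Nat.odd_iff.2 hR) h1)
    have hle := card_le_mul N S (orbit_inv N a)
    have hRb : Nat.card R ^ 2 * 3 ≤ 3 ^ Nat.card {x // S x} := by
      refine (Nat.mul_le_mul (Nat.pow_le_pow_left (Nat.le_of_dvd (h_pos _) hdvd) 2) le_rfl).trans ?_
      refine (Nat.mul_le_mul (h_sq_le_of_odd hsodd) le_rfl).trans (le_of_eq ?_)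
      rw [← pow_succ]
      congr 1
      omega
    rcases Nat.eq_zero_or_pos (Nat.card {x // ¬ S x}) with h0 | h0
    · have h1 : Nat.card R' = 1 := by
        haveI : IsEmpty {x // ¬ S x} := Finite.card_eq_zero_iff.1 h0
        haveI : Subsingleton R' := ⟨fun x y => Subtype.ext (Equiv.ext fun z => isEmptyElim z)⟩
        exact Nat.card_of_subsingleton 1
      rw [h1, mul_one] at hle
      have hn : n % 2 = 1 := by omega
      rw [if_pos hn, pow_one, show n = Nat.card {x // S x} by omega]
      refine ⟨(Nat.mul_le_mul (Nat.pow_le_pow_left hle 2) le_rfl).trans hRb, fun _ => Or.inr ?_⟩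
      refine dvd_trans (dvd_of_eq (le_antisymm hle ?_)) hdvd
      exact Nat.le_of_dvd Nat.card_pos (Subgroup.card_range_dvd _)
    · obtain ⟨h2, -⟩ := ih _ (show Nat.card {x // ¬ S x} < n by omega) _ rfl R'
        (isNilpotent_restr N _ _) hR' h0
      have key : Nat.card N ^ 2 * (3 * 3 ^ (if Nat.card {x // ¬ S x} % 2 = 1 then 1 else 2)) ≤
          3 ^ n := by
        rw [show n = Nat.card {x // S x} + Nat.card {x // ¬ S x} by omega, pow_add]
        refine le_trans ?_ (Nat.mul_le_mul hRb h2)
        refine (Nat.mul_le_mul (Nat.pow_le_pow_left hle 2) le_rfl).trans (le_of_eq ?_)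
        ring
      rcases Nat.mod_two_eq_zero_or_one n with hn | hn
      · rw [if_pos (show Nat.card {x // ¬ S x} % 2 = 1 by omega)] at key
        refine ⟨?_, fun h => absurd h (by omega)⟩
        rw [if_neg (by omega)]
        simpa using key
      · rw [if_neg (show ¬ Nat.card {x // ¬ S x} % 2 = 1 by omega)] at key
        have e27 : (3 : ℕ) * 3 ^ 2 = 27 := by norm_num
        rw [e27] at key
        rw [if_pos hn, pow_one]
        refine ⟨?_, fun _ => Or.inl key⟩
        exact le_trans (Nat.mul_le_mul_left _ (by norm_num : (3 : ℕ) ≤ 27)) key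

/-- The order of a nilpotent group of even permutations. -/
theorem two_mul_card_le_g [DecidableEq α] (N : Subgroup (Perm α)) [hN : Group.IsNilpotent N]
    (hev : N ≤ alternatingGroup α) (h2 : 2 ≤ Nat.card α) (h3 : Nat.card α ≠ 3)
    (h5 : Nat.card α ≠ 5) (h6 : Nat.card α ≠ 6) (h9 : Nat.card α ≠ 9) :
    2 * Nat.card N ≤ g (Nat.card α) := by
  classical
  by_cases hA : IsPGroup 2 N
  · exact (two_group_even h2 N hA hev).trans (T_le_g _)
  by_cases hB : ∃ a : α, Nat.card {x // x ∈ orbit N a} % 2 = 0 ∧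
      ∃ p : ℕ, p.Prime ∧ p ≠ 2 ∧ p ∣ Nat.card (restr N (· ∈ orbit N a) (orbit_inv N a)).range
  · obtain ⟨a, ha, p, hp, hp2, hpd⟩ := hB
    haveI := isNilpotent_restr N (· ∈ orbit N a) (orbit_inv N a)
    haveI := isPretransitive_orbit N a
    haveI : Nonempty {x // x ∈ orbit N a} := ⟨⟨a, mem_orbit_self a⟩⟩
    have hpn := Nat.dvd_of_mem_primeFactors (transitive_prime hp hpd).1
    have hh := two_mul_h_le ha hp hp2 hpn (Nat.card_pos).ne'
    have hle := card_le_mul N _ (orbit_inv N a)
    have hd := Nat.le_of_dvd (h_pos _) (orbit_dvd_h N a)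
    have hrest := card_le_g _ (restr N (fun x => x ∉ orbit N a) (compl_inv N _ (orbit_inv N a))).range
      (isNilpotent_restr N _ _)
    have hs := card_split (fun x => x ∈ orbit N a)
    have hg := g_mul_le (Nat.card {x // x ∈ orbit N a}) (Nat.card {x // x ∉ orbit N a})
    rw [hs] at hg
    refine le_trans ?_ hg
    refine (Nat.mul_le_mul_left 2 (hle.trans (Nat.mul_le_mul hd hrest))).trans ?_
    rw [← mul_assoc]
    exact Nat.mul_le_mul (hh.trans (T_le_g _)) le_rfl
  -- the rest: even orbits carry 2-groups, odd orbits odd order groups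
  simp only [not_exists, not_and] at hB
  set S := fun x : α => Nat.card {y // y ∈ orbit N x} % 2 = 0 with hSdef
  have hSinv : ∀ g ∈ N, ∀ x, S (g x) ↔ S x := by
    intro g hg x
    have he : orbit N (g x) = orbit N x := orbit_eq_iff.2 ⟨⟨g, hg⟩, rfl⟩
    simp only [hSdef, he]
  set R := (restr N S hSinv).range
  set R' := (restr N (fun x => ¬ S x) (compl_inv N S hSinv)).range
  haveI := isNilpotent_restr N S hSinv
  haveI := isNilpotent_restr N (fun x => ¬ S x) (compl_inv N S hSinv)
  -- an element of prime order `p` of a restriction moves a point, so `p` divides an orbit image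
  have hmove : ∀ (S' : α → Prop) (hS' : ∀ g ∈ N, ∀ x, S' (g x) ↔ S' x) (p : ℕ), p.Prime →
      p ∣ Nat.card (restr N S' hS').range → ∃ a : α, S' a ∧
        p ∣ Nat.card (restr N (· ∈ orbit N a) (orbit_inv N a)).range := by
    intro S' hS' p hp hd
    haveI := Fact.mk hp
    obtain ⟨y, hy⟩ := exists_prime_orderOf_dvd_card' p hd
    have hy1 : y ≠ 1 := fun e => hp.ne_one (by rw [← hy, e, orderOf_one])
    obtain ⟨g, hg⟩ := y.2
    obtain ⟨a, ha⟩ : ∃ a : {x // S' x}, (y : Perm {x // S' x}) a ≠ a := by
      by_contra hcon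
      push Not at hcon
      exact hy1 (Subtype.ext (Equiv.ext hcon))
    refine ⟨a.1, a.2, ?_⟩
    set z := (restr N (· ∈ orbit N a.1) (orbit_inv N a.1)).rangeRestrict g with hz
    have hzp : z ^ p = 1 := by
      rw [hz, ← map_pow]
      refine Subtype.ext (Equiv.ext fun w => Subtype.ext ?_)
      have hw : S' w.1 := by
        obtain ⟨k, hk⟩ := w.2
        rw [← hk]
        exact (hS' k k.2 a.1).2 a.2
      have h1 : restr N S' hS' (g ^ p) = 1 := by
        rw [map_pow, hg, ← SubgroupClass.coe_pow, ← hy, pow_orderOf_eq_one]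
        rfl
      have h2 := congrArg Subtype.val (Equiv.ext_iff.1 h1 ⟨w.1, hw⟩)
      simp only [MonoidHom.coe_rangeRestrict, restr_apply, Perm.one_apply] at h2 ⊢
      exact h2
    have hz1 : z ≠ 1 := fun e => ha (Subtype.ext (by
      have h1 := congrArg Subtype.val (Equiv.ext_iff.1 (congrArg Subtype.val e) ⟨a.1, mem_orbit_self a.1⟩)
      rw [← hg]
      exact h1))
    rw [← orderOf_eq_prime hzp hz1]
    exact orderOf_dvd_natCard z
  have hR2 : ∀ p : ℕ, p.Prime → p ∣ Nat.card R → p = 2 := by
    intro p hp hd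
    obtain ⟨a, ha, hpa⟩ := hmove S hSinv p hp hd
    by_contra hp2
    exact hB a ha p hp hp2 hpa
  have hR'2 : ¬ 2 ∣ Nat.card R' := by
    intro hd
    obtain ⟨a, ha, hpa⟩ := hmove _ (compl_inv N S hSinv) 2 Nat.prime_two hd
    haveI := isNilpotent_restr N (· ∈ orbit N a) (orbit_inv N a)
    haveI := isPretransitive_orbit N a
    haveI : Nonempty {x // x ∈ orbit N a} := ⟨⟨a, mem_orbit_self a⟩⟩
    have := Nat.dvd_of_mem_primeFactors (transitive_prime Nat.prime_two hpa).1
    exact ha (by omega)
  have hcop : (Nat.card R).Coprime (Nat.card R') := Nat.coprime_of_dvd fun p hp h1 h1' => by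
    rw [hR2 p hp h1] at h1'
    exact hR'2 h1'
  have hRp : IsPGroup 2 R := IsPGroup.of_card
    (Nat.eq_prime_pow_of_unique_prime_dvd Nat.card_pos.ne' (fun hp hd => hR2 _ hp hd))
  have hsign : R ≤ alternatingGroup {x // S x} := by
    rintro y ⟨g, rfl⟩
    rw [Equiv.Perm.mem_alternatingGroup]
    have h1 := Equiv.Perm.sign_subtypeCongr (restr N S hSinv g) (restr N (fun x => ¬ S x) (compl_inv N S hSinv) g)
    have h2 : Equiv.Perm.subtypeCongr (restr N S hSinv g) (restr N (fun x => ¬ S x) (compl_inv N S hSinv) g) =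
        (g : Perm α) := Equiv.ext fun x => by
      by_cases hx : S x
      · rw [Equiv.Perm.subtypeCongr.left_apply _ _ hx]; rfl
      · rw [Equiv.Perm.subtypeCongr.right_apply _ _ hx]; rfl
    rw [h2, Equiv.Perm.mem_alternatingGroup.1 (hev g.2)] at h1
    have h3 : Equiv.Perm.sign (restr N (fun x => ¬ S x) (compl_inv N S hSinv) g) = 1 := by
      have hpow : ((restr N (fun x => ¬ S x) (compl_inv N S hSinv)).rangeRestrict g) ^ Nat.card R' = 1 :=
        pow_card_eq_one'
      have h4 : Equiv.Perm.sign (restr N (fun x => ¬ S x) (compl_inv N S hSinv) g) ^ Nat.card R' = 1 := by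
        rw [← map_pow]
        have h5 := congrArg Subtype.val hpow
        simp only [SubgroupClass.coe_pow, MonoidHom.coe_rangeRestrict, OneMemClass.coe_one] at h5
        rw [h5, map_one]
      obtain ⟨r, hr⟩ := Nat.odd_iff.2 (Nat.two_dvd_ne_zero.1 hR'2)
      rw [hr, pow_succ, pow_mul, sq, Int.units_mul_self, one_pow, one_mul] at h4
      exact h4
    rw [h3, mul_one] at h1
    exact h1.symm
  have hle := card_le_mul N S hSinv
  have hs := card_split S
  rcases Nat.lt_or_ge (Nat.card {x // S x}) 2 with hf | hf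
  · -- no even orbits
    have hS0 : Nat.card {x // S x} = 0 := by
      by_contra h0
      obtain ⟨⟨a, ha⟩⟩ := (Nat.card_pos_iff.1 (Nat.pos_of_ne_zero h0)).1
      have h1 : Nat.card {y // y ∈ orbit N a} ≤ Nat.card {x // S x} :=
        Nat.card_le_card_of_injective (fun y => ⟨y.1, by
          obtain ⟨k, hk⟩ := y.2
          rw [← hk]
          exact (hSinv k k.2 a).2 ha⟩) fun y z e => Subtype.ext (by simpa using e)
      have h2 := orbit_card_pos N a
      have ha' : Nat.card {y // y ∈ orbit N a} % 2 = 0 := ha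
      omega
    have hodd : Nat.card N % 2 = 1 := by
      haveI : IsEmpty {x // S x} := Finite.card_eq_zero_iff.1 hS0
      haveI : Subsingleton R := ⟨fun x y => Subtype.ext (Equiv.ext fun z => isEmptyElim z)⟩
      rw [Nat.card_of_subsingleton (1 : R), one_mul] at hle
      have := Nat.le_of_dvd Nat.card_pos
        (Subgroup.card_range_dvd (restr N (fun x => ¬ S x) (compl_inv N S hSinv)))
      rw [show Nat.card N = Nat.card R' from le_antisymm hle this]
      omega
    obtain ⟨hq1, hq2⟩ := odd_sq_le α N hN hodd (by omega)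
    refine odd_bound h2 h3 h5 h6 h9 ?_ ?_ ?_
    · have e : 3 ^ Nat.card α = 3 ^ (Nat.card α - 1) * 3 := by
        rw [← pow_succ]; congr 1; omega
      refine Nat.le_of_mul_le_mul_right (le_trans ?_ (hq1.trans (le_of_eq e))) (by norm_num)
      exact Nat.mul_le_mul le_rfl (by split_ifs <;> norm_num)
    · intro he
      rw [if_neg (by omega)] at hq1
      simpa using hq1
    · intro ho h15
      refine (hq2 ho).imp id fun hd => ?_
      refine (Nat.le_of_dvd (h_pos _) hd).trans ?_
      obtain ⟨n, hn⟩ : ∃ n, Nat.card α = n := ⟨_, rfl⟩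
      rw [hn] at h2 h3 h5 h6 h9 ho h15 ⊢
      interval_cases n <;> first
        | omega
        | (rw [h_fifteen])
        | (rw [h_prime (by norm_num)])
  · refine (Nat.mul_le_mul_left 2 hle).trans ?_
    rw [← mul_assoc]
    refine (Nat.mul_le_mul ((two_group_even hf R hRp hsign).trans (T_le_g _))
      (card_le_g _ R' inferInstance)).trans ((g_mul_le _ _).trans (le_of_eq ?_))
    rw [hs]

end Cfsg.Agent.NilpPerm
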