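import Cfsg.Agent.Lib.NilpPerm.Sylow
import Mathlib.GroupTheory.Perm.Centralizer
import Mathlib.GroupTheory.SpecificGroups.Alternating

/-!
The nilpotent permutation groups of largest order in degree `3` modulo `4`.
-/

set_option autoImplicit false
set_option linter.style.haveILetI false

namespace Cfsg.Agent.NilpPerm

open Equiv

theorem factorization_three_mul_two_pow (x : ℕ) : (3 * 2 ^ x).factorization 2 = x := by
  rw [Nat.factorization_mul (by norm_num) (by positivity), Finsupp.add_apply,
    Nat.Prime.factorization_pow Nat.prime_two, Finsupp.single_eq_same,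
    Nat.factorization_eq_zero_of_not_dvd (show ¬ 2 ∣ 3 by norm_num), zero_add]

/-- Two subgroups of order `3 * 2 ^ x` centralizing conjugate elements of order `3` in them, with
Sylow `2`-subgroups as large as those of the centralizers, are conjugate. -/
theorem conj_of_central {G : Type*} [Group G] [Finite G] {x : ℕ} {c₁ c₂ : G}
    (hconj : IsConj c₁ c₂) (hord : orderOf c₂ = 3)
    (hK : (Nat.card (Subgroup.centralizer ({c₂} : Set G))).factorization 2 = x)
    (N₁ N₂ : Subgroup G) (h₁ : c₁ ∈ N₁) (h₂ : c₂ ∈ N₂)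
    (hc₁ : ∀ a ∈ N₁, a * c₁ = c₁ * a) (hc₂ : ∀ a ∈ N₂, a * c₂ = c₂ * a)
    (hn₁ : Nat.card N₁ = 3 * 2 ^ x) (hn₂ : Nat.card N₂ = 3 * 2 ^ x) :
    ∃ g : G, N₂ = N₁.map (MulAut.conj g).toMonoidHom := by
  haveI := Fact.mk Nat.prime_two
  obtain ⟨g₀, rfl⟩ := isConj_iff.1 hconj
  set c := g₀ * c₁ * g₀⁻¹ with hcdef
  set K := Subgroup.centralizer ({c} : Set G) with hKdef
  have hdesc : ∀ N : Subgroup G, c ∈ N → N ≤ K → Nat.card N = 3 * 2 ^ x →
      ∃ P : Sylow 2 K, (P : Subgroup K).map K.subtype ⊔ Subgroup.zpowers c = N := by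
    intro N hcN hNK hn
    obtain ⟨Q⟩ := (inferInstance : Nonempty (Sylow 2 N))
    have hQ : Nat.card Q = 2 ^ x := by
      rw [Q.card_eq_multiplicity, hn, factorization_three_mul_two_pow]
    have hle : (Q : Subgroup N).map N.subtype ≤ N := Subgroup.map_subtype_le _
    have hcard : Nat.card ((Q : Subgroup N).map N.subtype) = 2 ^ x := by
      rw [Subgroup.card_map_of_injective N.subtype_injective]
      exact hQ
    have hcard' : Nat.card (((Q : Subgroup N).map N.subtype).subgroupOf K) =
        2 ^ (Nat.card K).factorization 2 := by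
      rw [hK, ← hcard]
      exact Nat.card_congr (Subgroup.subgroupOfEquivOfLe (hle.trans hNK)).toEquiv
    refine ⟨Sylow.ofCard _ hcard', ?_⟩
    rw [Sylow.coe_ofCard, Subgroup.map_subgroupOf_eq_of_le (hle.trans hNK)]
    have hsup : (Q : Subgroup N).map N.subtype ⊔ Subgroup.zpowers c ≤ N :=
      sup_le hle (Subgroup.zpowers_le.2 hcN)
    refine Subgroup.eq_of_le_of_card_ge hsup (Nat.le_of_dvd Nat.card_pos ?_)
    rw [hn]
    refine Nat.Coprime.mul_dvd_of_dvd_of_dvd (Nat.Coprime.pow_right _ (by norm_num)) ?_ ?_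
    · rw [← hord, ← Nat.card_zpowers]
      exact Subgroup.card_dvd_of_le le_sup_right
    · rw [← hcard]
      exact Subgroup.card_dvd_of_le le_sup_left
  have hK₂ : N₂ ≤ K := fun a ha => Subgroup.mem_centralizer_singleton_iff.2 (hc₂ a ha)
  set N := N₁.map (MulAut.conj g₀).toMonoidHom with hNdef
  have hcN : c ∈ N := ⟨c₁, h₁, MulAut.conj_apply g₀ c₁⟩
  have hK₁ : N ≤ K := by
    rintro a ⟨b, hb, rfl⟩
    refine Subgroup.mem_centralizer_singleton_iff.2 ?_
    show MulAut.conj g₀ b * MulAut.conj g₀ c₁ = MulAut.conj g₀ c₁ * MulAut.conj g₀ b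
    rw [← map_mul, ← map_mul, hc₁ b hb]
  have hnN : Nat.card N = 3 * 2 ^ x := by
    rw [hNdef, Subgroup.card_map_of_injective (MulAut.conj g₀).injective, hn₁]
  obtain ⟨P₁, hP₁⟩ := hdesc N hcN hK₁ hnN
  obtain ⟨P₂, hP₂⟩ := hdesc N₂ h₂ hK₂ hn₂
  obtain ⟨k, rfl⟩ := MulAction.exists_smul_eq K P₁ P₂
  refine ⟨(k : G) * g₀, ?_⟩
  have hcomp : (MulAut.conj ((k : G) * g₀)).toMonoidHom =
      (MulAut.conj (k : G)).toMonoidHom.comp (MulAut.conj g₀).toMonoidHom := by
    ext b
    simp [mul_assoc]
  have hkc : MulAut.conj (k : G) c = c := by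
    rw [MulAut.conj_apply, Subgroup.mem_centralizer_singleton_iff.1 k.2, mul_inv_cancel_right]
  have hksub : (MulAut.conj (k : G)).toMonoidHom.comp K.subtype =
      K.subtype.comp (MulAut.conj k).toMonoidHom := by
    ext b
    rfl
  rw [hcomp, ← Subgroup.map_map, ← hNdef, ← hP₁, ← hP₂, Subgroup.map_sup,
    MonoidHom.map_zpowers, Subgroup.map_map, hksub, ← Subgroup.map_map]
  congr 1
  exact congrArg _ hkc.symm

variable {α : Type*} [Fintype α] [DecidableEq α]

/-- In degree `3` modulo `4`, a nilpotent group of the largest order has a central `3`-cycle. -/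
theorem exists_central_three_cycle (hn : Nat.card α % 4 = 3) {x : ℕ} (N : Subgroup (Perm α))
    [Group.IsNilpotent N] (hN : Nat.card N = 3 * 2 ^ x)
    (hT : T (Nat.card α - 3) ≤ 2 * 2 ^ x) :
    ∃ c ∈ N, c.IsThreeCycle ∧ ∀ a ∈ N, a * c = c * a := by
  haveI := Fact.mk Nat.prime_three
  haveI := Fact.mk Nat.prime_two
  obtain ⟨P⟩ := (inferInstance : Nonempty (Sylow 3 N))
  haveI : (P : Subgroup N).Normal :=
    P.normal_of_normalizerCondition Group.normalizerCondition_of_isNilpotent
  have hP : Nat.card P = 3 := by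
    rw [P.card_eq_multiplicity, hN, Nat.factorization_mul (by norm_num) (by positivity),
      Finsupp.add_apply, Nat.prime_three.factorization_self,
      Nat.factorization_eq_zero_of_not_dvd (fun h => absurd (Nat.prime_three.dvd_of_dvd_pow h) (by norm_num)),
      pow_one]
  haveI : IsCyclic P := isCyclic_of_prime_card hP
  obtain ⟨c, hc⟩ := exists_prime_orderOf_dvd_card' 3 (dvd_of_eq hP.symm)
  have hPC : (P : Subgroup N) ≤ Subgroup.centralizer ((P : Subgroup N) : Set N) := by
    intro a ha
    rw [Subgroup.mem_centralizer_iff]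
    intro b hb
    letI := (inferInstance : IsCyclic P).commGroup
    exact congrArg Subtype.val (mul_comm (⟨b, hb⟩ : P) ⟨a, ha⟩)
  have htop : Subgroup.centralizer ((P : Subgroup N) : Set N) = ⊤ := by
    rw [← sup_eq_right.2 hPC, Subnormal.sylow_sup_centralizer P]
  have hcentral : ∀ a ∈ N, a * ((c : N) : Perm α) = ((c : N) : Perm α) * a := by
    intro a ha
    have := Subgroup.mem_centralizer_iff.1
      (htop ▸ Subgroup.mem_top (⟨a, ha⟩ : N)) (c : N) c.2
    exact (congrArg Subtype.val this).symm
  refine ⟨((c : N) : Perm α), (c : N).2, ?_, hcentral⟩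
  set σ := ((c : N) : Perm α) with hσ
  have hord : orderOf σ = 3 := by rw [hσ, Subgroup.orderOf_coe, Subgroup.orderOf_coe, hc]
  obtain ⟨m, hm⟩ := Perm.cycleType_prime_order (σ := σ) (by rw [hord]; exact Nat.prime_three)
  rw [hord] at hm
  rcases Nat.eq_zero_or_pos m with rfl | hmpos
  · exact hm
  exfalso
  set r := m + 1 with hr
  have hrn : 3 * r ≤ Nat.card α := by
    have h1 : σ.support.card ≤ Fintype.card α := Finset.card_le_univ _
    rw [← Perm.sum_cycleType, hm, Multiset.sum_replicate, smul_eq_mul,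
      ← Nat.card_eq_fintype_card] at h1
    omega
  have hcard : Nat.card (Subgroup.centralizer ({σ} : Set (Perm α))) =
      (Nat.card α - 3 * r).factorial * 3 ^ r * r.factorial := by
    rw [Perm.nat_card_centralizer, hm, Multiset.sum_replicate, Multiset.prod_replicate,
      smul_eq_mul, mul_comm r 3, ← Nat.card_eq_fintype_card,
      Multiset.toFinset_replicate, if_neg (by omega), Finset.prod_singleton,
      Multiset.count_replicate_self]
  have hdvd : 2 ^ x ∣ (Nat.card α - 3 * r).factorial * r.factorial := by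
    have h1 : N ≤ Subgroup.centralizer ({σ} : Set (Perm α)) := fun a ha =>
      Subgroup.mem_centralizer_singleton_iff.2 (hcentral a ha)
    have h2 := (dvd_mul_left (2 ^ x) 3).trans (hN ▸ Subgroup.card_dvd_of_le h1)
    rw [hcard, mul_right_comm] at h2
    exact (Nat.Coprime.pow _ _ (by norm_num)).dvd_of_dvd_mul_right h2
  have hle : 2 ^ x ≤ T (Nat.card α - 4) := by
    have h1 : x ≤ padicValNat 2 (Nat.card α - 3 * r).factorial + padicValNat 2 r.factorial := by
      rw [← padicValNat.mul (Nat.factorial_ne_zero _) (Nat.factorial_ne_zero _)]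
      exact (padicValNat_dvd_iff_le (mul_ne_zero (Nat.factorial_ne_zero _)
        (Nat.factorial_ne_zero _))).1 hdvd
    calc 2 ^ x ≤ T (Nat.card α - 3 * r) * T r := by
            rw [T, T, ← pow_add]; exact Nat.pow_le_pow_right two_pos h1
      _ ≤ T (Nat.card α - 3 * r + r) := T_mul_le _ _
      _ ≤ T (Nat.card α - 4) := T_mono (by omega)
  obtain ⟨k, hk⟩ : ∃ k, Nat.card α = 4 * (k + 1) + 3 := ⟨Nat.card α / 4 - 1, by omega⟩
  rw [show Nat.card α - 4 = 4 * k + 3 by omega, T_four_mul_add_three] at hle
  rw [show Nat.card α - 3 = 2 * (2 * (k + 1)) by omega, T_two_mul, T_two_mul] at hT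
  rw [show 4 * k = 2 * (2 * k) by ring, T_two_mul, T_two_mul] at hle
  have hmono : T k ≤ T (k + 1) := T_mono (Nat.le_succ k)
  have hpos : 0 < 2 ^ (2 * k) * (2 ^ k * T k) :=
    Nat.mul_pos (pow_pos two_pos _) (Nat.mul_pos (pow_pos two_pos _) (T_pos k))
  have hbig : 8 * (2 ^ (2 * k) * (2 ^ k * T k)) ≤ 2 ^ (2 * (k + 1)) * (2 ^ (k + 1) * T (k + 1)) := by
    calc 8 * (2 ^ (2 * k) * (2 ^ k * T k)) = 2 ^ (2 * (k + 1)) * (2 ^ (k + 1) * T k) := by ring
      _ ≤ _ := by gcongr
  omega

theorem card_centralizer_three_cycle {c : Perm α} (hc : c.IsThreeCycle) :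
    Nat.card (Subgroup.centralizer ({c} : Set (Perm α))) = 3 * (Nat.card α - 3).factorial := by
  rw [Perm.nat_card_centralizer, hc, Multiset.sum_singleton, Multiset.prod_singleton,
    Multiset.toFinset_singleton, Finset.prod_singleton, Multiset.count_singleton_self,
    Nat.factorial_one, mul_one, mul_comm, Nat.card_eq_fintype_card]

theorem factorization_centralizer {c : Perm α} (hc : c.IsThreeCycle) :
    (Nat.card (Subgroup.centralizer ({c} : Set (Perm α)))).factorization 2 =
      padicValNat 2 (Nat.card α - 3).factorial := by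
  rw [card_centralizer_three_cycle hc, Nat.factorization_mul (by norm_num) (Nat.factorial_ne_zero _),
    Finsupp.add_apply, Nat.factorization_eq_zero_of_not_dvd (show ¬ 2 ∣ 3 by norm_num), zero_add,
    Nat.factorization_def _ Nat.prime_two]

theorem factorization_centralizer_alt (h5 : 5 ≤ Nat.card α) {c : alternatingGroup α}
    (hc : (c : Perm α).IsThreeCycle) :
    (Nat.card (Subgroup.centralizer ({c} : Set (alternatingGroup α)))).factorization 2 + 1 =
      padicValNat 2 (Nat.card α - 3).factorial := by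
  haveI : Nontrivial α := Finite.one_lt_card_iff_nontrivial.1 (by omega)
  rw [← factorization_centralizer hc]
  set K := Subgroup.centralizer ({(c : Perm α)} : Set (Perm α)) with hKdef
  have hKA : Subgroup.centralizer ({c} : Set (alternatingGroup α)) = K.subgroupOf (alternatingGroup α) := by
    ext a
    rw [Subgroup.mem_subgroupOf, hKdef, Subgroup.mem_centralizer_singleton_iff,
      Subgroup.mem_centralizer_singleton_iff]
    exact ⟨fun h => congrArg Subtype.val h, fun h => Subtype.ext h⟩
  obtain ⟨a, ha, b, hb, hab⟩ : ∃ a ∈ (c : Perm α).supportᶜ, ∃ b ∈ (c : Perm α).supportᶜ, a ≠ b := by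
    refine Finset.one_lt_card.1 ?_
    rw [Finset.card_compl, hc.card_support, ← Nat.card_eq_fintype_card]
    omega
  rw [Finset.mem_compl, Perm.mem_support, not_not] at ha hb
  have hswap : swap a b ∈ K := by
    rw [hKdef, Subgroup.mem_centralizer_singleton_iff, Equiv.swap_mul_eq_mul_swap, Perm.inv_eq_iff_eq.2 ha.symm,
      Perm.inv_eq_iff_eq.2 hb.symm]
  have hnle : ¬ K ≤ (alternatingGroup α) := fun h => by
    have := Perm.mem_alternatingGroup.1 (h hswap)
    rw [Perm.sign_swap hab] at this
    exact absurd this (by decide)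
  have hidx : (alternatingGroup α).relIndex K = 2 := by
    have h1 : (alternatingGroup α).relIndex K ∣ 2 :=
      alternatingGroup.index_eq_two (α := α) ▸ Subgroup.relIndex_dvd_index_of_normal (alternatingGroup α) K
    rcases (Nat.dvd_prime Nat.prime_two).1 h1 with h | h
    · exact absurd (Subgroup.relIndex_eq_one.1 h) hnle
    · exact h
  have hmul : Nat.card ((alternatingGroup α).subgroupOf K) * 2 = Nat.card K := by
    rw [← hidx]
    exact Subgroup.card_mul_index _
  have heq : Nat.card ((alternatingGroup α).subgroupOf K) = Nat.card (K.subgroupOf (alternatingGroup α)) := by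
    rw [← Subgroup.card_map_of_injective K.subtype_injective,
      ← Subgroup.card_map_of_injective (K := K.subgroupOf (alternatingGroup α)) (alternatingGroup α).subtype_injective,
      Subgroup.subgroupOf_map_subtype, Subgroup.subgroupOf_map_subtype, inf_comm]
  rw [hKA, ← heq, ← hmul, Nat.factorization_mul Nat.card_pos.ne' two_ne_zero, Finsupp.add_apply,
    Nat.prime_two.factorization_self]

/-- Rotations of three points. -/
def rot : Multiplicative (ZMod 3) →* Perm (ZMod 3) where
  toFun a := Equiv.addLeft a.toAdd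
  map_one' := by ext z; simp
  map_mul' a b := by ext z; simp [add_assoc]

theorem rot_injective : Function.Injective rot := fun a b h => by
  have := Equiv.ext_iff.1 h 0
  simpa [rot] using this

theorem sign_rot (a : Multiplicative (ZMod 3)) : Perm.sign (rot a) = 1 := by
  have h1 : a ^ 3 = 1 := by
    have := pow_card_eq_one (x := a)
    rwa [Fintype.card_multiplicative, ZMod.card] at this
  have h2 : Perm.sign (rot a) ^ 3 = 1 := by rw [← map_pow, ← map_pow, h1, map_one, map_one]
  rwa [pow_succ, Int.units_sq, one_mul] at h2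

/-- A symmetric group on three points fewer, times a group of order `3`. -/
theorem exists_embedding {n : ℕ} (h : 3 ≤ n) :
    ∃ f : Perm (Fin (n - 3)) × Multiplicative (ZMod 3) →* Perm (Fin n), Function.Injective f ∧
      ∀ p a, Perm.sign (f (p, a)) = Perm.sign p := by
  have e : Fin (n - 3) ⊕ ZMod 3 ≃ Fin n :=
    Fintype.equivOfCardEq (by rw [Fintype.card_sum, Fintype.card_fin, Fintype.card_fin, ZMod.card]; omega)
  refine ⟨e.permCongrHom.toMonoidHom.comp
    ((Perm.sumCongrHom _ _).comp ((MonoidHom.id _).prodMap rot)), ?_, fun p a => ?_⟩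
  · exact e.permCongrHom.injective.comp
      (Perm.sumCongrHom_injective.comp
        (Function.Injective.prodMap Function.injective_id rot_injective))
  · show Perm.sign (e.permCongr (Perm.sumCongr p (rot a))) = _
    rw [Perm.sign_permCongr, Perm.sign_sumCongr, sign_rot, mul_one]

/-- The range of an injective map out of a product of a `2`-group and a group of order `3`. -/
theorem range_spec {G H : Type*} [Group G] [Group H] [Finite H] (hH : IsPGroup 2 H)
    (f : H × Multiplicative (ZMod 3) →* G) (hf : Function.Injective f) :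
    Group.IsNilpotent f.range ∧ Nat.card f.range = 3 * Nat.card H ∧
      Nonempty (f.range ≃* H × Multiplicative (ZMod 3)) := by
  haveI := Fact.mk Nat.prime_two
  haveI : Group.IsNilpotent H := hH.isNilpotent
  refine ⟨Group.nilpotent_of_mulEquiv (MonoidHom.ofInjective hf), ?_,
    ⟨(MonoidHom.ofInjective hf).symm⟩⟩
  rw [← Nat.card_congr (MonoidHom.ofInjective hf).toEquiv, Nat.card_prod, mul_comm]
  congr 1
  exact (Nat.card_congr Multiplicative.toAdd).trans (Nat.card_zmod 3)

end Cfsg.Agent.NilpPerm
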