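import Cfsg.Agent.Lib.NilpPerm.Bound
import Mathlib.GroupTheory.Sylow

/-!
The orders of Sylow `2`-subgroups of symmetric and alternating groups.
-/

set_option autoImplicit false

namespace Cfsg.Agent.NilpPerm

open Equiv

variable {α : Type*} [Fintype α]

theorem card_sylow_perm (P : Sylow 2 (Perm α)) : Nat.card P = T (Nat.card α) := by
  rw [P.card_eq_multiplicity, Nat.card_perm, Nat.factorization_def _ Nat.prime_two]
  rfl

theorem two_mul_card_sylow_alt [DecidableEq α] (h : 2 ≤ Nat.card α)
    (P : Sylow 2 (alternatingGroup α)) : 2 * Nat.card P = T (Nat.card α) := by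
  haveI : Nontrivial α := Finite.one_lt_card_iff_nontrivial.1 h
  have h1 : 2 * Nat.card (alternatingGroup α) = (Nat.card α).factorial := by
    rw [two_mul_nat_card_alternatingGroup, Nat.card_perm]
  rw [P.card_eq_multiplicity, T, ← h1, ← Nat.factorization_def _ Nat.prime_two,
    Nat.factorization_mul two_ne_zero Nat.card_pos.ne', Finsupp.add_apply,
    Nat.prime_two.factorization_self, pow_add, pow_one]

theorem isNilpotent_map_alt [DecidableEq α] (N : Subgroup (alternatingGroup α))
    [Group.IsNilpotent N] :
    Group.IsNilpotent (N.map (alternatingGroup α).subtype) :=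
  Group.nilpotent_of_mulEquiv (Subgroup.equivMapOfInjective N _ (alternatingGroup α).subtype_injective)

end Cfsg.Agent.NilpPerm
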